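import Groth.Agent.Lib.GrpQ.Desc

/-!
Transport of an endomorphism with given kernel along an isomorphism of groups.
-/

set_option autoImplicit false
universe u

open CategoryTheory MonoidalCategory CartesianMonoidalCategory MonObj GrpObj AlgebraicGeometry

namespace Groth.Agent.Lib.GaGmKernel

theorem transport {S : Scheme.{u}} {G G₀ H : Over S} [GrpObj G] [GrpObj G₀] [GrpObj H] (e : G ≅ G₀)
    [IsMonHom e.hom] (i : H ⟶ G) [Mono i] (φ : G₀ ⟶ G₀)
    (h : IsMonHom φ ∧ AlgGrp.IsKernel (i ≫ e.hom) φ ∧ Flat φ.left ∧ Surjective φ.left) :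
    ∃ ψ : G ⟶ G, IsMonHom ψ ∧ AlgGrp.IsKernel i ψ ∧ Flat ψ.left ∧ Surjective ψ.left := by
  obtain ⟨hm, hk, hf, hs⟩ := h
  have : IsIso e.hom.left := inferInstanceAs (IsIso ((Over.forget _).map e.hom))
  have : IsIso e.inv.left := inferInstanceAs (IsIso ((Over.forget _).map e.inv))
  have hev : ∀ {T : Over S} (x : T ⟶ G), x ≫ e.hom ≫ φ ≫ e.inv = 1 ↔ (x ≫ e.hom) ≫ φ = 1 := by
    intro T x
    refine ⟨fun h => ?_, fun h => ?_⟩
    · have := congrArg (· ≫ e.hom) h
      simpa using this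
    · rw [← Category.assoc, ← Category.assoc, h, MonObj.one_comp]
  refine ⟨e.hom ≫ φ ≫ e.inv, inferInstance,
    GrpQ.isKernel_of i ((hev i).2 (GrpQ.kernel_comp hk)) (fun T x hx => ?_), ?_, ?_⟩
  · obtain ⟨n, hn⟩ := (GrpQ.mem_kernel hk (x ≫ e.hom)).2 ((hev x).1 hx)
    exact ⟨n, (cancel_mono e.hom).1 (by rw [Category.assoc]; exact hn)⟩
  · simp only [Over.comp_left]; infer_instance
  · simp only [Over.comp_left]; infer_instance

end Groth.Agent.Lib.GaGmKernel
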